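import Groth.Agent.Lib.RpushCoprod13.Sect
import Groth.Agent.Lib.GalCd.PtSupp
import Groth.Agent.Lib.CurveSupp9.Basic
import Groth.Agent.Lib.HDU.Values
import Groth.Agent.Lib.HDU.SmallDer
import Groth.Agent.Lib.DerCat.MapAdj
import Groth.Agent.Lib.BCDVcomp.Homology
import Groth.Agent.Lib.EtDer.SepPoint
import Groth.Prelude.Def_DCoh2

/-!
# Complexes with cohomology at closed points are detected by their hypercohomology
-/

set_option autoImplicit false
set_option backward.isDefEq.respectTransparency false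
set_option linter.style.haveILetI false

universe w w' v u u'

open CategoryTheory CategoryTheory.Limits AlgebraicGeometry Opposite Abelian
open GrothLib.EtSite GrothLib.EtColim GrothLib.SheafCoh

noncomputable section

namespace GrothLib.PtZero13

section Abstract

variable {A : Type u'} [Category.{v} A] [Abelian A] [HasDerivedCategory.{w} A]

/-- The derived functor of the identity. -/
def idDerIso : (𝟭 A).mapDerivedCategory ≅ 𝟭 (DerivedCategory A) :=
  letI : Localization.Lifting DerivedCategory.Q (HomologicalComplex.quasiIso A (ComplexShape.up ℤ))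
      ((𝟭 A).mapHomologicalComplex (ComplexShape.up ℤ) ⋙ DerivedCategory.Q) (𝟭 (DerivedCategory A)) :=
    ⟨Functor.rightUnitor _ ≪≫ (Functor.leftUnitor _).symm ≪≫ Functor.isoWhiskerRight
      (NatIso.ofComponents (fun K => HomologicalComplex.Hom.isoOfComponents (fun n => Iso.refl _)
        (fun i j _ => by simp)) (fun {K L} φ => by ext n; simp)) _⟩
  Localization.liftNatIso DerivedCategory.Q (HomologicalComplex.quasiIso A (ComplexShape.up ℤ))
    ((𝟭 A).mapHomologicalComplex (ComplexShape.up ℤ) ⋙ DerivedCategory.Q)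
    ((𝟭 A).mapHomologicalComplex (ComplexShape.up ℤ) ⋙ DerivedCategory.Q) _ _ (Iso.refl _)

end Abstract

attribute [local instance] HasDerivedCategory.standard

variable {X : Scheme.{u}}

section field

variable {k : Type u} [Field k] [IsSepClosed k]

/-- A sheaf on a separably closed point without global sections is zero. -/
theorem isZero_of_gsec (M : EtCoh.Ab (Spec (CommRingCat.of k)))
    (h : Subsingleton (EtCoh.sect M (EtCoh.top (Spec (CommRingCat.of k))))) : IsZero M := by
  refine isZero_of_stalks _ fun Ω _ _ ξ => ?_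
  haveI : Subsingleton ((EtCoh.stalk ξ).obj M) := by
    refine subsingleton_of_forall_eq 0 fun p => ?_
    obtain ⟨U, t, s, rfl⟩ := exists_germ ξ M p
    let f : U.left ⟶ Spec (CommRingCat.of k) := U.hom
    haveI : Etale f := U.prop
    haveI : IsLocallyArtinian (Spec (CommRingCat.of k)) :=
      Scheme.isLocallyArtinianScheme_Spec.2 (inferInstanceAs (IsArtinianRing k))
    haveI : LocallyQuasiFinite f := GrothLib.EtBasicB.locallyQuasiFinite_of_unramified f
    haveI : IsLocallyArtinian U.left := IsLocallyArtinian.of_locallyQuasiFinite f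
    let z := t.left.base (default : Spec (CommRingCat.of Ω))
    let O : U.left.Opens := ⟨{z}, isOpen_discrete _⟩
    obtain ⟨v, hv, -⟩ := GrothLib.EtBasicB.exists_fib_lift ξ (opensHom U O) t
      (⟨z, rfl⟩ : O) rfl
    rw [← hv, ← germ_map]
    haveI : Etale (O.ι ≫ f) := inferInstance
    obtain ⟨σ, hσ⟩ := GrothLib.ProEtS.exists_section_of_isSepClosed (O.ι ≫ f) (⟨z, rfl⟩ : O)
    let g : EtCoh.top (Spec (CommRingCat.of k)) ⟶ opensObj U O := MorphismProperty.Over.homMk σ hσ trivial
    have hsurj : Function.Surjective g.left.base := fun y =>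
      ⟨(default : Spec (CommRingCat.of k)), Subtype.ext ((σ.base _).2.trans y.2.symm)⟩
    have h0 : M.obj.map (opensHom U O).op s = 0 :=
      GrothLib.GalCd.injective_map_of_surjective' (G := M) g hsurj (@Subsingleton.elim _ h _ _)
    rw [h0, map_zero]
  exact AddCommGrpCat.isZero_of_subsingleton _

end field

variable {K : Type u} [Field K] [IsSepClosed K] (a : X ⟶ Spec (CommRingCat.of K))
  [LocallyOfFiniteType a] [QuasiCompact a]

include a

/-- Acyclicity of sheaves concentrated at closed points over quasi-compact objects. -/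
theorem subsingleton_H_of_qcqs (G : EtCoh.Ab X) (hG : CurveSupp9.IsPtSupp G) (V : X.Etale)
    [CompactSpace ↥V.left] (q : ℕ) (hq : 1 ≤ q) :
    Subsingleton (EtCoh.H V.left ((EtCoh.pull V.hom).obj G) q) := by
  let f : V.left ⟶ X := V.hom
  haveI : Etale f := V.prop
  haveI : LocallyOfFiniteType (f ≫ a) := inferInstance
  haveI : IsLocallyNoetherian V.left := LocallyOfFiniteType.isLocallyNoetherian (f ≫ a)
  haveI : AlgebraicGeometry.IsNoetherian V.left := {}
  refine subsingleton_of_forall_eq 0 (GrothLib.GalCd.H_eq_zero_of_supp_closedPts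
    (CurveSupp9.isSepClosed_residueField (f ≫ a)) _ ?_ q hq)
  intro Ω _ _ ξ hξ
  refine IsZero.of_iso (hG Ω (ξ ≫ f) fun hc => hξ ?_) ((pullStalkIso ξ f).app G)
  haveI : LocallyQuasiFinite f := GrothLib.EtBasicB.locallyQuasiFinite_of_unramified f
  rw [← closure_eq_iff_isClosed]
  refine Set.Subset.antisymm (fun w hw => ?_) subset_closure
  have hvw : ξ.base default ⤳ w := specializes_iff_mem_closure.2 hw
  have e : f.base w = f.base (ξ.base default) := by
    have := (hvw.map f.continuous).mem_closed hc rfl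
    exact this
  exact (GrothLib.EtFibre.eq_of_specializes_of_discrete f _ w hvw e.symm).symm

/-- A sheaf concentrated at closed points without global sections is zero. -/
theorem isZero_of_ptSupp (G : EtCoh.Ab X) (hG : CurveSupp9.IsPtSupp G)
    (h : Subsingleton (EtCoh.sect G (EtCoh.top X))) : IsZero G := by
  haveI : IsLocallyNoetherian X := LocallyOfFiniteType.isLocallyNoetherian a
  haveI : CompactSpace X := QuasiCompact.compactSpace_of_compactSpace a
  haveI : AlgebraicGeometry.IsNoetherian X := {}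
  refine isZero_of_stalks _ fun Ω _ _ ξ => ?_
  by_cases hc : IsClosed ({ξ.base (default : Spec (CommRingCat.of Ω))} : Set X)
  swap
  · exact hG Ω ξ hc
  generalize hx : ξ.base (default : Spec (CommRingCat.of Ω)) = x at hc
  let i : Spec (X.residueField x) ⟶ X := X.fromSpecResidueField x
  haveI : IsClosedImmersion i := isClosed_singleton_iff_isClosedImmersion.1 hc
  haveI := GrothLib.EtDer.pullFL i
  haveI := CurveSupp9.isSepClosed_residueField a x hc
  obtain ⟨ζ, hζ⟩ := exists_point_lift i ξ (default : Spec (X.residueField x))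
    ((Scheme.fromSpecResidueField_apply x _).trans hx.symm)
  let u := (EtCoh.pullPushAdj i).unit.app G
  haveI := isIso_counit i ((EtCoh.pull i).obj G)
  haveI : IsIso (𝟙 ((EtCoh.pull i).obj G)) := IsIso.id _
  haveI hpu : IsIso ((EtCoh.pull i).map u) :=
    IsIso.of_isIso_fac_right ((EtCoh.pullPushAdj i).left_triangle_components G)
  have hoff : ∀ (Ω' : Type u) [Field Ω'] [IsSepClosed Ω'] (η : Spec (CommRingCat.of Ω') ⟶ X),
      η.base default ∈ Set.range i.base ∨ IsZero ((EtCoh.stalk η).obj ((EtCoh.push i).obj ((EtCoh.pull i).obj G))) :=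
    fun Ω' _ _ η => (em _).imp id fun h' => stalk_push_isZero i _ η h'
  have hisoAt : ∀ (Ω' : Type u) [Field Ω'] [IsSepClosed Ω'] (η : Spec (CommRingCat.of Ω') ⟶ X),
      η.base default ∈ Set.range i.base → IsIso ((EtCoh.stalk η).map u) := fun Ω' _ _ η hη => by
    obtain ⟨z, hz⟩ := hη
    obtain ⟨ζ', rfl⟩ := exists_point_lift i η z hz
    exact (NatIso.isIso_map_iff (pullStalkIso ζ' i) _).1
      (inferInstanceAs (IsIso ((EtCoh.stalk ζ').map ((EtCoh.pull i).map u))))
  haveI : Epi u := epi_of_stalks u fun Ω' _ _ η => by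
    rcases hoff Ω' η with h' | h'
    · haveI := hisoAt Ω' η h'
      exact (ConcreteCategory.bijective_of_isIso ((EtCoh.stalk η).map u)).2
    · exact fun y => ⟨0, @Subsingleton.elim _ (AddCommGrpCat.subsingleton_of_isZero h') _ _⟩
  let T : ShortComplex (EtCoh.Ab X) := ShortComplex.mk (kernel.ι u) u (kernel.condition u)
  have hT : T.ShortExact := { exact := ShortComplex.exact_of_f_is_kernel _ (kernelIsKernel u) }
  have hker : CurveSupp9.IsPtSupp (kernel u) := fun Ω' _ _ η hη => by
    haveI : Mono ((EtCoh.stalk η).map (kernel.ι u)) := inferInstance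
    exact IsZero.of_mono ((EtCoh.stalk η).map (kernel.ι u)) (hG Ω' η hη)
  have hM : Subsingleton (EtCoh.sect ((EtCoh.pull i).obj G) (EtCoh.top _)) := by
    suffices hs : Subsingleton (EtCoh.sect ((EtCoh.push i).obj ((EtCoh.pull i).obj G)) (EtCoh.top X)) from
      @Equiv.subsingleton _ _ (((EtCore.pushGsecIso i).app ((EtCoh.pull i).obj G)).addCommGroupIsoToAddEquiv).toEquiv.symm hs
    refine subsingleton_of_forall_eq 0 fun s => ?_
    obtain ⟨b, rfl⟩ := (bijective_evOne _).2 s
    obtain ⟨c, hc'⟩ := Ext.covariant_sequence_exact₃ (Z X) hT (Ext.mk₀ b) (by omega : 0 + 1 = 1)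
      (CurveSupp9.comp_eq_zero (CurveSupp9.isSepClosed_residueField a) hker 1 le_rfl _)
    obtain ⟨c, rfl⟩ := (Ext.mk₀_bijective _ _).2 c
    rw [Ext.mk₀_comp_mk₀] at hc'
    rw [← (Ext.mk₀_bijective _ _).1 hc']
    have : evOne _ c = 0 := @Subsingleton.elim _ h _ _
    show u.hom.app (op (EtCoh.top X)) (evOne _ c) = 0
    rw [this, map_zero]
  have hz := @isZero_of_gsec (X.residueField x) _ ‹IsSepClosed (X.residueField x)› ((EtCoh.pull i).obj G) hM
  rw [← hζ]
  exact IsZero.of_iso ((EtCoh.stalk ζ).map_isZero hz) ((pullStalkIso ζ i).app G).symm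

variable (Q : DCoh.DEt X) (hQ : ∀ i : ℤ, CurveSupp9.IsPtSupp (DCoh.HDEt Q i))
  (hH : ∀ i : ℤ, Subsingleton ((DerivedCategory.singleFunctor (EtCoh.Ab X) 0).obj (EtCoh.const X ℤ) ⟶
    (shiftFunctor (DCoh.DEt X) i).obj Q))

include hQ hH

theorem isZero_HDEt (j : ℤ) : IsZero (DCoh.HDEt Q j) := by
  haveI : CompactSpace X := QuasiCompact.compactSpace_of_compactSpace a
  haveI : IsLocallyNoetherian X := LocallyOfFiniteType.isLocallyNoetherian a
  haveI : AlgebraicGeometry.IsNoetherian X := {}
  let E' := E X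
  letI : HasDerivedCategory.{u + 1} (Sheaf (JS X) AddCommGrpCat.{u + 1}) :=
    GrothLib.HDU.hasDerivedCategory _
  haveI : E'.inverse.Additive := Functor.additive_of_preserves_binary_products _
  haveI : PreservesFiniteLimits E'.inverse := inferInstance
  haveI : PreservesFiniteColimits E'.inverse := inferInstance
  let ED := E'.functor.mapDerivedCategory
  let GD := E'.inverse.mapDerivedCategory
  let η : ED ⋙ GD ≅ 𝟭 _ := DerCat.mapDerivedCompIso E'.functor E'.inverse (𝟭 _) E'.unitIso.symm ≪≫ idDerIso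
  let ε : GD ⋙ ED ≅ 𝟭 _ := DerCat.mapDerivedCompIso E'.inverse E'.functor (𝟭 _) E'.counitIso ≪≫ idDerIso
  haveI : (GD ⋙ ED).Faithful := Functor.Faithful.of_iso ε.symm
  haveI : GD.Faithful := Functor.Faithful.of_comp GD ED
  let Q' := ED.obj Q
  let hI : ∀ q : ℤ, CohCx.HD Q' q ≅ E'.functor.obj (DCoh.HDEt Q q) := fun q =>
    (GrothLib.BCDVcomp.homologyMapDerivedIso E'.functor q).app Q
  let zI : E'.inverse.obj (freeY (JS X) (topS X)) ≅ Z X :=
    E'.inverse.mapIso (asIso (freeToZ X)) ≪≫ (E'.unitIso.app (Z X)).symm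
  have hφ : ∀ φ : (DerivedCategory.singleFunctor (Sheaf (JS X) AddCommGrpCat.{u + 1}) j).obj
      (freeY (JS X) (topS X)) ⟶ Q', φ = 0 := fun φ => by
    apply GD.map_injective
    rw [Functor.map_zero]
    let ψ : (DerivedCategory.singleFunctor (EtCoh.Ab X) j).obj (Z X) ⟶ Q :=
      (DerivedCategory.singleFunctor (EtCoh.Ab X) j).map zI.inv ≫
        (E'.inverse.mapDerivedCategorySingleFunctor j).inv.app _ ≫ GD.map φ ≫ η.hom.app Q
    have hψ : ψ = 0 := by
      apply (shiftFunctor (DCoh.DEt X) j).map_injective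
      rw [Functor.map_zero, ← cancel_epi
        (((DerivedCategory.singleFunctors (EtCoh.Ab X)).shiftIso j 0 j (add_zero j)).inv.app (Z X)), comp_zero]
      exact @Subsingleton.elim _ (hH j) _ _
    rw [← cancel_mono (η.hom.app Q), ← cancel_epi ((E'.inverse.mapDerivedCategorySingleFunctor j).inv.app _),
      ← cancel_epi ((DerivedCategory.singleFunctor (EtCoh.Ab X) j).map zI.inv), zero_comp, comp_zero, comp_zero]
    exact hψ
  have hbij := GrothLib.HDU.theta_bijective_of_acyclic Q' (B X) ?_ ?_ (topS X) top_mem_B j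
  · have hsec : Subsingleton (EtCoh.sect (DCoh.HDEt Q j) (EtCoh.top X)) := by
      suffices hs : Subsingleton ((CohCx.HD Q' j).obj.obj (op (topS X))) from
        @Equiv.subsingleton _ _ (((sheafToPresheaf (JS X) AddCommGrpCat.{u + 1}).mapIso (hI j)).app
          (op (topS X))).addCommGroupIsoToAddEquiv.toEquiv.symm hs
      refine @Equiv.subsingleton _ _ (homFreeY (CohCx.HD Q' j) (topS X)).toEquiv.symm ?_
      refine subsingleton_of_forall_eq 0 fun s => ?_
      obtain ⟨φ, rfl⟩ := hbij.2 s
      rw [hφ φ]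
      simp [GrothLib.SiteDer.theta]
    exact isZero_of_ptSupp a _ (hQ j) hsec
  · intro U
    let U₀ : X.Etale := (eS X).inverse.obj U
    refine ⟨ULift.{u + 1} U₀.left.affineOpens, fun W => ULiftHom.up.obj (RpushCoprod13.affObj U₀ W.down),
      fun W => ULiftHom.up.map (RpushCoprod13.affHom U₀ W.down), ?_, fun W => ?_⟩
    · rw [mem_JS_iff]
      refine X.smallEtaleTopology.superset_covering ?_ (RpushCoprod13.cover_affine U₀)
      rw [Sieve.generate_le_iff]
      rintro T _ ⟨W⟩
      exact Sieve.image_mem_functorPushforward (eS X).inverse _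
        (Sieve.ofArrows_mk _ (fun W : ULift.{u + 1} U₀.left.affineOpens =>
          ULiftHom.up.map (RpushCoprod13.affHom U₀ W.down)) ⟨W⟩)
    · haveI : IsAffine W.down.1.toScheme := W.down.2
      exact ⟨inferInstanceAs (CompactSpace ↥W.down.1.toScheme),
        inferInstanceAs (QuasiSeparatedSpace ↥W.down.1.toScheme)⟩
  · intro U hU p q
    let V : X.Etale := (eS X).inverse.obj U
    haveI : CompactSpace ↥V.left := hU.1
    have h1 := subsingleton_H_of_qcqs a _ (hQ q) V (p + 1) (by omega)
    refine @Equiv.subsingleton _ _ (HUext _ (p + 1) U).toEquiv ?_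
    let e0 : E'.functor ⋙ Abelian.extFunctorObj (freeY (JS X) U) 0 ≅ RpushCoprod13.sectA X V :=
      NatIso.ofComponents (fun F => (Abelian.Ext.addEquiv₀.trans (homFreeY (E'.functor.obj F) U)).toAddCommGrpIso)
        (fun {F G} b => by
          ext x
          obtain ⟨x, rfl⟩ := (Ext.mk₀_bijective _ _).2 x
          show homFreeY _ U (Abelian.Ext.addEquiv₀ ((Ext.mk₀ x).comp (Ext.mk₀ (E'.functor.map b)) (add_zero 0))) =
            (E'.functor.map b).hom.app (op U) (homFreeY _ U (Abelian.Ext.addEquiv₀ (Ext.mk₀ x)))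
          rw [Ext.mk₀_comp_mk₀]
          have h0 : ∀ {M N : Sheaf (JS X) AddCommGrpCat.{u + 1}} (m : M ⟶ N),
              Abelian.Ext.addEquiv₀ (Ext.mk₀ m) = m := fun m => by
            apply Abelian.Ext.addEquiv₀.symm.injective
            rw [AddEquiv.symm_apply_apply]
            rfl
          rw [h0, h0, homFreeY_comp])
    obtain ⟨e1⟩ := GrothLib.CechUniv.nonempty_extFunctor_iso_rightDerived E'.functor (freeY (JS X) U)
      (RpushCoprod13.sectA X V) (fun I hI n => by
        haveI := E'.functor.injective_obj_of_injective hI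
        exact subsingleton_of_forall_eq 0 fun x => Ext.eq_zero_of_injective x) e0 (p + 1)
    obtain ⟨e2⟩ := RpushCoprod13.nonempty_rightDerived_iso V (p + 1)
    have hs2 : Subsingleton ↑((E'.functor ⋙ Abelian.extFunctorObj (freeY (JS X) U) (p + 1)).obj (DCoh.HDEt Q q)) :=
      @Equiv.subsingleton _ _ ((e1 ≪≫ e2.symm).app (DCoh.HDEt Q q)).addCommGroupIsoToAddEquiv.toEquiv h1
    exact @Equiv.subsingleton _ _ (((Abelian.extFunctorObj (freeY (JS X) U) (p + 1)).mapIso (hI q)).addCommGroupIsoToAddEquiv).toEquiv hs2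

end GrothLib.PtZero13
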